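import Mathlib.RingTheory.Smooth.Locus
import Mathlib.RingTheory.Smooth.Field
import Mathlib.RingTheory.Localization.FractionRing
import Mathlib.RingTheory.Localization.Away.Basic
import Mathlib.RingTheory.FiniteStability
import Mathlib.FieldTheory.Perfect
import Mathlib.Algebra.Algebra.Rat

/-!
A finitely generated field with formally smooth structure map is the fraction field of a smooth
algebra.
-/
set_option autoImplicit false
universe u v

namespace Groth.Agent.SmoothModel

theorem exists_smooth_model (F : Type v) [CommRing F] [IsNoetherianRing F] (K : Type u) [Field K]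
    [Algebra F K] (s : Finset K) (hs : ∀ x : K, ∃ a ∈ Algebra.adjoin F (s : Set K),
      ∃ b ∈ Algebra.adjoin F (s : Set K), x = a / b) [Algebra.FormallySmooth F K] :
    ∃ A : Subalgebra F K, Algebra.FiniteType F A ∧ Algebra.Smooth F A ∧ IsFractionRing A K := by
  set A₀ := Algebra.adjoin F (s : Set K)
  have : Algebra.FiniteType F A₀ := A₀.fg_iff_finiteType.1 (Subalgebra.fg_adjoin_finset s)
  have : Algebra.FinitePresentation F A₀ := Algebra.FinitePresentation.of_finiteType.1 inferInstance
  have : IsFractionRing A₀ K := IsFractionRing.of_field A₀ K fun x => by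
    obtain ⟨a, ha, b, hb, hx⟩ := hs x
    exact ⟨⟨a, ha⟩, ⟨b, hb⟩, hx⟩
  have hP : (⊥ : Ideal A₀).IsPrime := Ideal.isPrime_bot
  have : IsLocalization.AtPrime K (⊥ : Ideal A₀) := by
    have hM : (⊥ : Ideal A₀).primeCompl = nonZeroDivisors A₀ := by
      ext x
      simp [Ideal.primeCompl, mem_nonZeroDivisors_iff_ne_zero]
    show IsLocalization (⊥ : Ideal A₀).primeCompl K
    rw [hM]
    infer_instance
  have : Algebra.IsSmoothAt F (⊥ : Ideal A₀) :=
    Algebra.FormallySmooth.of_equiv
      ((IsLocalization.algEquiv (⊥ : Ideal A₀).primeCompl K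
        (Localization.AtPrime (⊥ : Ideal A₀))).restrictScalars F)
  obtain ⟨f, hf, hsm⟩ := Algebra.IsSmoothAt.exists_notMem_smooth F (⊥ : Ideal A₀)
  have hf0 : (f : K) ≠ 0 := fun h => hf (Ideal.mem_bot.2 (Subtype.ext h))
  let g : Localization.Away f →ₐ[F] K :=
    IsLocalization.Away.liftAlgHom (f := A₀.val) f (isUnit_iff_ne_zero.2 hf0)
  have hg : ∀ a : A₀, g (algebraMap A₀ _ a) = a := fun a =>
    IsLocalization.Away.lift_eq (g := (A₀.val : A₀ →+* K)) f (isUnit_iff_ne_zero.2 hf0) a
  have hginj : Function.Injective g := by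
    rw [injective_iff_map_eq_zero]
    intro x hx
    obtain ⟨n, a, ha⟩ := IsLocalization.Away.surj f x
    have h := congrArg g ha
    rw [map_mul, hx, zero_mul, hg] at h
    have ha0 : a = 0 := Subtype.ext h.symm
    rw [ha0, map_zero] at ha
    exact ((IsLocalization.Away.algebraMap_isUnit f).pow n).mul_left_eq_zero.1 ha
  have hle : A₀ ≤ g.range := fun x hx => ⟨_, hg ⟨x, hx⟩⟩
  let e : Localization.Away f ≃ₐ[F] g.range := AlgEquiv.ofInjective g hginj
  refine ⟨g.range, ?_, Algebra.Smooth.of_equiv e, IsFractionRing.of_field g.range K fun x => ?_⟩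
  · have : Algebra.FiniteType A₀ (Localization.Away f) :=
      IsLocalization.finiteType_of_monoid_fg (Submonoid.powers f) _
    have : Algebra.FiniteType F (Localization.Away f) :=
      Algebra.FiniteType.trans (S := A₀) inferInstance inferInstance
    exact this.equiv e
  · obtain ⟨a, ha, b, hb, hx⟩ := hs x
    exact ⟨⟨a, hle ha⟩, ⟨b, hle hb⟩, hx⟩

/-- Field version of `Subfield.closure` membership. -/
theorem exists_div_of_closure (F : Type v) [CommRing F] (K : Type u) [Field K] [Algebra F K]
    (s : Finset K) (hs : Subfield.closure (↑s : Set K) = ⊤) (x : K) :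
    ∃ a ∈ Algebra.adjoin F (s : Set K), ∃ b ∈ Algebra.adjoin F (s : Set K), x = a / b := by
  have hle : Subring.closure (s : Set K) ≤ (Algebra.adjoin F (s : Set K)).toSubring :=
    Subring.closure_le.2 Algebra.subset_adjoin
  obtain ⟨a, ha, b, hb, h⟩ := Subfield.mem_closure_iff.1 (hs.ge (Subfield.mem_top x))
  exact ⟨a, hle ha, b, hle hb, h.symm⟩

theorem essFiniteType (F : Type v) [CommRing F] (K : Type u) [Field K] [Algebra F K]
    (s : Finset K) (hs : Subfield.closure (↑s : Set K) = ⊤) : Algebra.EssFiniteType F K := by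
  set A₀ := Algebra.adjoin F (s : Set K)
  have : Algebra.FiniteType F A₀ := A₀.fg_iff_finiteType.1 (Subalgebra.fg_adjoin_finset s)
  have : IsFractionRing A₀ K := IsFractionRing.of_field A₀ K fun x => by
    obtain ⟨a, ha, b, hb, hx⟩ := exists_div_of_closure F K s hs x
    exact ⟨⟨a, ha⟩, ⟨b, hb⟩, hx⟩
  have : Algebra.EssFiniteType A₀ K := Algebra.EssFiniteType.of_isLocalization K (nonZeroDivisors A₀)
  exact Algebra.EssFiniteType.comp F A₀ K

/-- In characteristic zero a finitely generated field is formally smooth over the integers. -/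
theorem formallySmooth_int (K : Type u) [Field K] [CharZero K] (s : Finset K)
    (hs : Subfield.closure (↑s : Set K) = ⊤) : Algebra.FormallySmooth ℤ K := by
  have : Algebra.EssFiniteType ℚ K := essFiniteType ℚ K s hs
  have : Algebra.FormallySmooth ℚ K := Algebra.FormallySmooth.of_perfectField
  have : Algebra.FormallyEtale ℤ ℚ := Algebra.FormallyEtale.of_isLocalization (nonZeroDivisors ℤ)
  exact Algebra.FormallySmooth.comp ℤ ℚ K

end Groth.Agent.SmoothModel
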